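import Cfsg.Agent.Omega.NoFF.LinesPlug
import Cfsg.Agent.Omega.BTwo.Pair
import Cfsg.Agent.Lib.CoprimeStab

/-!
# Groups generated by elements of odd order acting on 2-groups

`E` is generated by elements of odd order (`E ≤ oddGen E`), `X` is a 2-group normalised by `E`.
-/

set_option autoImplicit false

namespace Cfsg.Agent.Omega.NO3S.NotFF

open Subgroup Cfsg Cfsg.Agent.ZN Cfsg.Agent.MinSimple.VModule
open scoped commutatorElement Pointwise

variable {G : Type*} [Group G]

theorem le_normalizer_of_forall {A B : Subgroup G} (h : ∀ a ∈ A, ∀ x ∈ B, a * x * a⁻¹ ∈ B) :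
    A ≤ normalizer (B : Set G) := by
  intro a ha
  rw [mem_normalizer_iff]
  refine fun x => ⟨h a ha x, fun hx => ?_⟩
  have h1 := h a⁻¹ (inv_mem ha) _ hx
  have e : a⁻¹ * (a * x * a⁻¹) * a⁻¹⁻¹ = x := by group
  rwa [e] at h1

theorem conj_mem {A B : Subgroup G} (h : A ≤ normalizer (B : Set G)) {a x : G} (ha : a ∈ A) (hx : x ∈ B) :
    a * x * a⁻¹ ∈ B := (mem_normalizer_iff.1 (h ha) x).1 hx

theorem comm_mem_right {A B : Subgroup G} (h : A ≤ normalizer (B : Set G)) {a x : G} (ha : a ∈ A) (hx : x ∈ B) :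
    ⁅a, x⁆ ∈ B := by
  rw [commutatorElement_def]
  exact mul_mem (conj_mem h ha hx) (inv_mem hx)

theorem comm_mem_left {A B : Subgroup G} (h : A ≤ normalizer (B : Set G)) {a x : G} (ha : a ∈ A) (hx : x ∈ B) :
    ⁅x, a⁆ ∈ B := by
  rw [commutatorElement_def]
  have e : x * a * x⁻¹ * a⁻¹ = x * (a * x⁻¹ * a⁻¹) := by group
  rw [e]
  exact mul_mem hx (conj_mem h ha (inv_mem hx))

theorem normalizer_inf {A B C : Subgroup G} (h1 : A ≤ normalizer (B : Set G)) (h2 : A ≤ normalizer (C : Set G)) :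
    A ≤ normalizer ((B ⊓ C : Subgroup G) : Set G) :=
  le_normalizer_of_forall fun _ ha _ hx => ⟨conj_mem h1 ha hx.1, conj_mem h2 ha hx.2⟩

theorem normalizer_sup {A B C : Subgroup G} (h1 : A ≤ normalizer (B : Set G)) (h2 : A ≤ normalizer (C : Set G)) :
    A ≤ normalizer ((B ⊔ C : Subgroup G) : Set G) := by
  refine le_normalizer_of_forall fun a ha x hx => ?_
  have h3 : (B ⊔ C) ≤ (B ⊔ C).comap (MulAut.conj a).toMonoidHom := by
    refine sup_le (fun b hb => ?_) (fun c hc => ?_)
    · exact mem_sup_left (conj_mem h1 ha hb)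
    · exact mem_sup_right (conj_mem h2 ha hc)
  exact h3 hx

theorem normalizer_centralizer {A B : Subgroup G} (h : A ≤ normalizer (B : Set G)) :
    A ≤ normalizer ((centralizer (B : Set G) : Subgroup G) : Set G) := by
  refine le_normalizer_of_forall fun a ha x hx => mem_centralizer_iff.2 fun b hb => ?_
  have h1 := mem_centralizer_iff.1 hx (a⁻¹ * b * a) (by
    have := conj_mem h (inv_mem ha) hb
    rwa [inv_inv] at this)
  calc b * (a * x * a⁻¹) = a * ((a⁻¹ * b * a) * x) * a⁻¹ := by group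
    _ = a * (x * (a⁻¹ * b * a)) * a⁻¹ := by rw [h1]
    _ = a * x * a⁻¹ * b := by group

theorem normalizer_commutator {A B C : Subgroup G} (h1 : A ≤ normalizer (B : Set G))
    (h2 : A ≤ normalizer (C : Set G)) : A ≤ normalizer ((⁅B, C⁆ : Subgroup G) : Set G) := by
  refine le_normalizer_of_forall fun a ha x hx => ?_
  have h3 : ⁅B, C⁆ ≤ (⁅B, C⁆).comap (MulAut.conj a).toMonoidHom := by
    rw [commutator_le]
    intro b hb c hc
    change (MulAut.conj a) ⁅b, c⁆ ∈ ⁅B, C⁆
    rw [map_commutatorElement]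
    exact commutator_mem_commutator (conj_mem h1 ha hb) (conj_mem h2 ha hc)
  exact h3 hx

theorem le_normalizer_bot (A : Subgroup G) : A ≤ normalizer ((⊥ : Subgroup G) : Set G) :=
  le_normalizer_of_forall fun a _ x hx => by
    rw [mem_bot.1 hx, mul_one, mul_inv_cancel]
    exact one_mem _

/-- `[X, E] ≤ Y` iff `E` centralises `X / Y`; enough to check on the elements of odd order. -/
theorem commutator_le_of_odd [Finite G] {E X Y : Subgroup G} (hE : E ≤ oddGen E) (hX : IsPGroup 2 X)
    (hEX : E ≤ normalizer (X : Set G)) (hEY : E ≤ normalizer (Y : Set G)) (hXY : X ≤ normalizer (Y : Set G))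
    (h : ⁅⁅X, E⁆, E⁆ ≤ Y) : ⁅X, E⁆ ≤ Y := by
  -- the elements of `E` which centralise `X` modulo `Y`
  set H := normalizer (Y : Set G) with hH
  have hYn : (Y.subgroupOf H).Normal := normal_subgroupOf_of_le_normalizer le_rfl
  let π := QuotientGroup.mk' (Y.subgroupOf H)
  have key : ∀ x (hx : x ∈ X) e (he : e ∈ E), Odd (orderOf e) →
      Commute (π ⟨x, hXY hx⟩) (π ⟨e, hEY he⟩) := by
    intro x hx e he ho
    have h1 : ⁅x, e⁆ ∈ X := comm_mem_left hEX he hx
    have h2 : (orderOf (π ⟨e, hEY he⟩)).Coprime (Nat.card ((X.subgroupOf H).map π)) := by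
      have h3 : orderOf (π ⟨e, hEY he⟩) ∣ orderOf e := by
        have := orderOf_map_dvd π ⟨e, hEY he⟩
        rwa [orderOf_mk] at this
      have h4 : IsPGroup 2 ((X.subgroupOf H).map π) := (hX.comap_of_injective _ H.subtype_injective).map _
      obtain ⟨n, hn⟩ := IsPGroup.iff_card.1 h4
      rw [hn]
      exact Nat.Coprime.pow_right n (Nat.Coprime.coprime_dvd_left h3 (Nat.coprime_two_right.2 ho))
    refine Lib.CoprimeStab.commute_of_commutator_commute h2 ?_ ?_
    · rw [← map_commutatorElement]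
      exact mem_map_of_mem π (mem_subgroupOf.2 h1)
    · have h5 : ⁅⁅x, e⁆, e⁆ ∈ Y := h (commutator_mem_commutator (commutator_mem_commutator hx he) he)
      rw [← map_commutatorElement, ← commutatorElement_eq_one_iff_commute, ← map_commutatorElement]
      exact (QuotientGroup.eq_one_iff _).2 (mem_subgroupOf.2 h5)
  rw [commutator_le]
  intro x hx e he
  have h6 : ∀ e (he : e ∈ E), Commute (π ⟨x, hXY hx⟩) (π ⟨e, hEY he⟩) := by
    intro e he
    have h7 : e ∈ closure {y : G | y ∈ E ∧ Odd (orderOf y)} := hE he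
    have h8 : closure {y : G | y ∈ E ∧ Odd (orderOf y)} ≤
        ((centralizer {π ⟨x, hXY hx⟩}).comap π).map H.subtype := by
      rw [closure_le]
      rintro y ⟨hy, ho⟩
      refine ⟨⟨y, hEY hy⟩, ?_, rfl⟩
      change π ⟨y, hEY hy⟩ ∈ centralizer {π ⟨x, hXY hx⟩}
      rw [mem_centralizer_singleton_iff]
      exact (key x hx y hy ho).symm.eq
    obtain ⟨y, hy, hye⟩ := h8 h7
    have h9 : y = ⟨e, hEY he⟩ := Subtype.ext hye
    subst h9
    exact (mem_centralizer_singleton_iff.1 hy).symm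
  have h10 := h6 e he
  rw [← commutatorElement_eq_one_iff_commute, ← map_commutatorElement] at h10
  exact mem_subgroupOf.1 ((QuotientGroup.eq_one_iff _).1 h10)

/-- `[X, E, E] = 1` implies `[X, E] = 1`. -/
theorem le_centralizer_of_commutator [Finite G] {E X : Subgroup G} (hE : E ≤ oddGen E) (hX : IsPGroup 2 X)
    (hEX : E ≤ normalizer (X : Set G)) (h : ⁅X, E⁆ ≤ centralizer (E : Set G)) : X ≤ centralizer (E : Set G) := by
  have h1 : ⁅⁅X, E⁆, E⁆ ≤ ⊥ := (commutator_eq_bot_iff_le_centralizer.2 h).le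
  have h2 := commutator_le_of_odd hE hX hEX (Y := ⊥) (le_normalizer_bot E) (le_normalizer_bot X) h1
  exact commutator_eq_bot_iff_le_centralizer.1 (le_bot_iff.1 h2)

/-- `[X, E, E] = [X, E]`. -/
theorem commutator_commutator_eq [Finite G] {E X : Subgroup G} (hE : E ≤ oddGen E) (hX : IsPGroup 2 X)
    (hEX : E ≤ normalizer (X : Set G)) (hXE : X ≤ normalizer (E : Set G)) : ⁅⁅X, E⁆, E⁆ = ⁅X, E⁆ := by
  apply le_antisymm
  · rw [commutator_le]
    intro x hx e he
    exact comm_mem_left (normalizer_commutator hEX le_normalizer) he hx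
  · exact commutator_le_of_odd hE hX hEX
      (normalizer_commutator (normalizer_commutator hEX le_normalizer) le_normalizer)
      (normalizer_commutator (normalizer_commutator le_normalizer hXE) hXE) le_rfl

end Cfsg.Agent.Omega.NO3S.NotFF
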