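import Cfsg.Agent.Omega.NO3S.NotFF.Basic
import Cfsg.Agent.Lib.Hyperfocal

/-!
# NO-3S, `V` not FF: at least two noncentral chief factors (#12800, THEOREM C2)

`P = E S`, `E = O²(P)`, `Q = O₂(P)`, `W = ⟨V^P⟩` elementary abelian, `V` not normal in `P`, `V` normal in `S`.
`V` is not an FF-module for `S / C_S(V)`: `|V : C_V(A)| > |A / C_A(V)|` for every `A ≤ S` acting on `V`
as a nontrivial elementary abelian group. `C_W(S) ≤ C(E)` (`P` centralises `Z = Ω₁(Z(S))`), and
(H1): if `U ≤ W` is normal in `P`, `[U, Q] = 1`, `U = [U, E] ≠ 1`, then `C_U(S) ≰ C_U(E)`.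

Then there is `K ≤ W` normal in `P` with `[K, E] ≠ 1` and `[W, E] ≰ K`.
-/

set_option autoImplicit false

namespace Cfsg.Agent.Omega.NO3S.NotFF

open Subgroup Cfsg Cfsg.Agent.ZN Cfsg.Agent.MinSimple.VModule
open scoped commutatorElement Pointwise

variable {G : Type*} [Group G] {P E S Q V W : Subgroup G}

/-- `V` is not an FF-module for `S / C_S(V)`. -/
def NonFF (S V : Subgroup G) : Prop :=
  ∀ A : Subgroup G, A ≤ S → (∀ a ∈ A, ∀ b ∈ A, ⁅a, b⁆ ∈ centralizer (V : Set G)) →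
    (∀ a ∈ A, a * a ∈ centralizer (V : Set G)) → ¬ A ≤ centralizer (V : Set G) →
    (centralizer (V : Set G)).relIndex A < (centralizer (A : Set G)).relIndex V

/-- The setting. -/
structure Two (P E S Q V W : Subgroup G) : Prop where
  EP : E ≤ P
  SP : S ≤ P
  gen : P ≤ E ⊔ S
  nE : P ≤ normalizer (E : Set G)
  odd : E ≤ oddGen E
  S2 : IsPGroup 2 S
  QS : Q ≤ S
  nQ : P ≤ normalizer (Q : Set G)
  VW : V ≤ W
  WS : W ≤ S
  SV : S ≤ normalizer (V : Set G)
  nV : ¬ P ≤ normalizer (V : Set G)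
  nW : P ≤ normalizer (W : Set G)
  minW : ∀ X : Subgroup G, V ≤ X → P ≤ normalizer (X : Set G) → W ≤ X
  ab : ∀ a ∈ W, ∀ b ∈ W, a * b = b * a
  sq : ∀ a ∈ W, a * a = 1

/-- Hypothesis (H1). -/
def HOne (P E S Q W : Subgroup G) : Prop :=
  ∀ U ≤ W, P ≤ normalizer (U : Set G) → U ≤ centralizer (Q : Set G) → ⁅U, E⁆ = U → U ≠ ⊥ →
    ¬ U ⊓ centralizer (S : Set G) ≤ centralizer (E : Set G)

namespace Two

variable (h : Two P E S Q V W)
include h

theorem W2 : IsPGroup 2 W := h.S2.to_le h.WS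

theorem Q2 : IsPGroup 2 Q := h.S2.to_le h.QS

theorem QP : Q ≤ P := h.QS.trans h.SP

theorem V_ne : ¬ V ≤ centralizer (E : Set G) := by
  intro h1
  apply h.nV
  refine h.gen.trans (sup_le (fun e he => ?_) h.SV)
  refine centralizer_le_normalizer _ ?_
  exact mem_centralizer_iff.2 fun v hv => (mem_centralizer_iff.1 (h1 hv) e he).symm

/-- a subgroup of `W` normalised by `S` and by `E` -/
theorem nor {X : Subgroup G} (h1 : E ≤ normalizer (X : Set G)) (h2 : S ≤ normalizer (X : Set G)) :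
    P ≤ normalizer (X : Set G) := h.gen.trans (sup_le h1 h2)

/-- `W = V [W, E]` -/
theorem W_eq : W = V ⊔ ⁅W, E⁆ := by
  apply le_antisymm
  · refine h.minW _ le_sup_left (h.nor ?_ ?_)
    · refine le_normalizer_of_forall fun e he x hx => ?_
      have h1 : (V ⊔ ⁅W, E⁆) ≤ W := sup_le h.VW (by
        rw [commutator_le]
        exact fun w hw e he => comm_mem_left (h.EP.trans h.nW) he hw)
      have h2 : e * x * e⁻¹ = x * ⁅x⁻¹, e⁆ := by rw [commutatorElement_def]; group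
      rw [h2]
      exact mul_mem hx (mem_sup_right (commutator_mem_commutator (inv_mem (h1 hx)) he))
    · exact normalizer_sup h.SV (normalizer_commutator (h.SP.trans h.nW) (h.SP.trans h.nE))
  · refine sup_le h.VW ?_
    rw [commutator_le]
    exact fun w hw e he => comm_mem_left (h.EP.trans h.nW) he hw

/-- a 2-subgroup of `P` normalising `V` does not generate `W` from `V` -/
theorem not_le_sup_commutator [Finite G] (h1 : W ≤ V ⊔ ⁅W, Q⁆) : False := by
  have : Fact (Nat.Prime 2) := ⟨Nat.prime_two⟩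
  have hWV : W ≤ V := by
    have hnil : Group.IsNilpotent S := h.S2.isNilpotent
    have hVn : (V.subgroupOf S).Normal := normal_subgroupOf_of_le_normalizer h.SV
    have h2 : W.subgroupOf S ≤ V.subgroupOf S ⊔ ⁅W.subgroupOf S, (⊤ : Subgroup S)⁆ := by
      have h3 : ⁅W, Q⁆ ≤ (⁅W.subgroupOf S, (⊤ : Subgroup S)⁆).map S.subtype := by
        rw [map_commutator, subgroupOf_map_subtype, inf_eq_left.2 h.WS, ← MonoidHom.range_eq_map,
          S.range_subtype]
        exact commutator_mono le_rfl h.QS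
      have h4 : V = (V.subgroupOf S).map S.subtype := by
        rw [subgroupOf_map_subtype, inf_eq_left.2 (h.VW.trans h.WS)]
      rw [← map_subtype_le_map_subtype, Subgroup.map_sup, ← h4, subgroupOf_map_subtype,
        inf_eq_left.2 h.WS]
      exact h1.trans (sup_le_sup_left h3 _)
    have h5 := Lib.Hyperfocal.le_of_le_sup_commutator h2
    intro w hw
    exact mem_subgroupOf.1 (h5 (mem_subgroupOf.2 hw : (⟨w, h.WS hw⟩ : S) ∈ _))
  exact h.nV (le_antisymm h.VW hWV ▸ h.nW)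

end Two

/-- an `S`-invariant nontrivial character of `T` -/
theorem exists_inv_char [Finite G] {S T : Subgroup G} (hS : IsPGroup 2 S) (hT : T ≤ S)
    (hST : S ≤ normalizer (T : Set G)) (hab : ∀ a ∈ T, ∀ b ∈ T, a * b = b * a) (hne : T ≠ ⊥) :
    ∃ ξ : T →* ℂˣ, ξ ≠ 1 ∧ ∀ s (hs : s ∈ S) t (ht : t ∈ T), ξ ⟨s * t * s⁻¹, conj_mem hST hs ht⟩ = ξ ⟨t, ht⟩ := by
  have : Fact (Nat.Prime 2) := ⟨Nat.prime_two⟩
  have hnil : Group.IsNilpotent S := hS.isNilpotent
  have hle : ⁅T, S⁆ ≤ T := by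
    rw [commutator_le]
    exact fun t ht s hs => comm_mem_left hST hs ht
  have hlt : ¬ T ≤ ⁅T, S⁆ := by
    intro h1
    have h2 : T.subgroupOf S ≤ ⁅T.subgroupOf S, (⊤ : Subgroup S)⁆ := by
      rw [← map_subtype_le_map_subtype, map_commutator, subgroupOf_map_subtype, inf_eq_left.2 hT,
        ← MonoidHom.range_eq_map, S.range_subtype]
      exact h1
    have h3 := Lib.Hyperfocal.eq_bot_of_le_commutator h2
    rw [subgroupOf_eq_bot, disjoint_iff, inf_eq_left.2 hT] at h3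
    exact hne h3
  obtain ⟨t, ht, htn⟩ := SetLike.not_le_iff_exists.1 hlt
  let _ : CommGroup T := { (inferInstance : Group T) with mul_comm := fun x y => Subtype.ext (hab x x.2 y y.2) }
  have : NeZero (Monoid.exponent (T ⧸ (⁅T, S⁆).subgroupOf T)) := ⟨Monoid.exponent_ne_zero_of_finite⟩
  obtain ⟨χ, hχ⟩ := CommGroup.exists_apply_ne_one_of_hasEnoughRootsOfUnity (T ⧸ (⁅T, S⁆).subgroupOf T) ℂ
    (a := (QuotientGroup.mk ⟨t, ht⟩ : T ⧸ (⁅T, S⁆).subgroupOf T)) (by
      rw [Ne, QuotientGroup.eq_one_iff, mem_subgroupOf]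
      exact htn)
  refine ⟨χ.comp (QuotientGroup.mk' _), fun h1 => hχ ?_, fun s hs t ht => ?_⟩
  · exact congrArg (fun f : T →* ℂˣ => f ⟨t, ht⟩) h1
  · change χ (QuotientGroup.mk _) = χ (QuotientGroup.mk _)
    congr 1
    rw [QuotientGroup.eq, mem_subgroupOf]
    have h1 : (s * t * s⁻¹)⁻¹ * t = ⁅t⁻¹, s⁆⁻¹ := by rw [commutatorElement_def]; group
    change (s * t * s⁻¹)⁻¹ * t ∈ ⁅T, S⁆
    rw [h1]
    exact inv_mem (commutator_mem_commutator (inv_mem ht) hs)

/-- **The pairing** `W × O → ℂˣ`, `(w, o) ↦ ξ [w, o]`, `[W, O] ≤ T`. -/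
structure Bil (P W O T : Subgroup G) (f : G → ℂˣ) : Prop where
  nW : P ≤ normalizer (W : Set G)
  nO : P ≤ normalizer (O : Set G)
  comm : ∀ w ∈ W, ∀ o ∈ O, ⁅w, o⁆ ∈ T
  ab : ∀ a ∈ W, ∀ b ∈ W, a * b = b * a
  TW : T ≤ W
  cO : ∀ o ∈ O, ∀ t ∈ T, o * t = t * o
  mul : ∀ a ∈ T, ∀ b ∈ T, f (a * b) = f a * f b
  inv : ∀ p ∈ P, ∀ t ∈ T, f (p * t * p⁻¹) = f t

namespace Bil

variable {O T : Subgroup G} {f : G → ℂˣ} (b : Bil P W O T f)
include b

theorem one : f 1 = 1 := by
  have h1 := b.mul 1 (one_mem _) 1 (one_mem _)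
  rw [mul_one] at h1
  exact (mul_eq_left.1 h1.symm)

theorem mul_left {w w' o : G} (hw : w ∈ W) (hw' : w' ∈ W) (ho : o ∈ O) :
    f ⁅w * w', o⁆ = f ⁅w, o⁆ * f ⁅w', o⁆ := by
  have h1 := b.comm w hw o ho
  have h2 := b.comm w' hw' o ho
  rw [← b.mul _ h1 _ h2]
  congr 1
  have h3 := b.ab w hw _ (b.TW h2)
  calc ⁅w * w', o⁆ = w * ⁅w', o⁆ * (o * w⁻¹ * o⁻¹) := by simp only [commutatorElement_def]; group
    _ = ⁅w', o⁆ * w * (o * w⁻¹ * o⁻¹) := by rw [h3]
    _ = ⁅w', o⁆ * ⁅w, o⁆ := by simp only [commutatorElement_def]; group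
    _ = ⁅w, o⁆ * ⁅w', o⁆ := (b.ab _ (b.TW h1) _ (b.TW h2)).symm

theorem mul_right {w o o' : G} (hw : w ∈ W) (ho : o ∈ O) (ho' : o' ∈ O) :
    f ⁅w, o * o'⁆ = f ⁅w, o⁆ * f ⁅w, o'⁆ := by
  have h1 := b.comm w hw o ho
  have h2 := b.comm w hw o' ho'
  rw [← b.mul _ h1 _ h2]
  congr 1
  have h3 := b.cO o ho _ h2
  calc ⁅w, o * o'⁆ = ⁅w, o⁆ * (o * ⁅w, o'⁆) * o⁻¹ := by simp only [commutatorElement_def]; group
    _ = ⁅w, o⁆ * (⁅w, o'⁆ * o) * o⁻¹ := by rw [h3]
    _ = ⁅w, o⁆ * ⁅w, o'⁆ := by group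

theorem one_left {o : G} : f ⁅(1 : G), o⁆ = 1 := by
  rw [commutatorElement_one_left, b.one]

theorem one_right {w : G} : f ⁅w, (1 : G)⁆ = 1 := by
  rw [commutatorElement_one_right, b.one]

theorem inv_left {w o : G} (hw : w ∈ W) (ho : o ∈ O) : f ⁅w⁻¹, o⁆ = (f ⁅w, o⁆)⁻¹ := by
  have h1 := b.mul_left (inv_mem hw) hw ho
  rw [inv_mul_cancel, b.one_left] at h1
  exact eq_inv_of_mul_eq_one_left h1.symm

theorem inv_right {w o : G} (hw : w ∈ W) (ho : o ∈ O) : f ⁅w, o⁻¹⁆ = (f ⁅w, o⁆)⁻¹ := by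
  have h1 := b.mul_right hw (inv_mem ho) ho
  rw [inv_mul_cancel, b.one_right] at h1
  exact eq_inv_of_mul_eq_one_left h1.symm

theorem conj {p w o : G} (hp : p ∈ P) (hw : w ∈ W) (ho : o ∈ O) :
    f ⁅p * w * p⁻¹, p * o * p⁻¹⁆ = f ⁅w, o⁆ := by
  rw [← b.inv p hp _ (b.comm w hw o ho)]
  congr 1
  simp only [commutatorElement_def]
  group

/-- the left kernel -/
def lker : Subgroup G where
  carrier := {w | w ∈ W ∧ ∀ o ∈ O, f ⁅w, o⁆ = 1}
  one_mem' := ⟨one_mem _, fun o _ => b.one_left⟩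
  mul_mem' := by
    rintro w w' ⟨h1, h2⟩ ⟨h3, h4⟩
    refine ⟨mul_mem h1 h3, fun o ho => ?_⟩
    rw [b.mul_left h1 h3 ho, h2 o ho, h4 o ho, mul_one]
  inv_mem' := by
    rintro w ⟨h1, h2⟩
    refine ⟨inv_mem h1, fun o ho => ?_⟩
    rw [b.inv_left h1 ho, h2 o ho, inv_one]

/-- the right kernel -/
def rker : Subgroup G where
  carrier := {o | o ∈ O ∧ ∀ w ∈ W, f ⁅w, o⁆ = 1}
  one_mem' := ⟨one_mem _, fun o _ => b.one_right⟩
  mul_mem' := by
    rintro w w' ⟨h1, h2⟩ ⟨h3, h4⟩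
    refine ⟨mul_mem h1 h3, fun o ho => ?_⟩
    rw [b.mul_right ho h1 h3, h2 o ho, h4 o ho, mul_one]
  inv_mem' := by
    rintro w ⟨h1, h2⟩
    refine ⟨inv_mem h1, fun o ho => ?_⟩
    rw [b.inv_right ho h1, h2 o ho, inv_one]

theorem mem_lker {w : G} : w ∈ b.lker ↔ w ∈ W ∧ ∀ o ∈ O, f ⁅w, o⁆ = 1 := Iff.rfl

theorem mem_rker {o : G} : o ∈ b.rker ↔ o ∈ O ∧ ∀ w ∈ W, f ⁅w, o⁆ = 1 := Iff.rfl

theorem lker_le : b.lker ≤ W := fun _ hw => hw.1

theorem le_normalizer_lker : P ≤ normalizer (b.lker : Set G) := by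
  refine le_normalizer_of_forall fun p hp w hw => ⟨conj_mem b.nW hp hw.1, fun o ho => ?_⟩
  have h1 : p⁻¹ * o * p ∈ O := by
    have := conj_mem b.nO (inv_mem hp) ho
    rwa [inv_inv] at this
  have h2 := b.conj hp hw.1 h1
  have e : p * (p⁻¹ * o * p) * p⁻¹ = o := by group
  rw [e] at h2
  rw [h2]
  exact hw.2 _ h1

/-- if `[W, E] ≤ lker` then `[O, E] ≤ rker` -/
theorem commutator_le_rker (hE : E ≤ P) (h : ∀ w ∈ W, ∀ e ∈ E, ⁅w, e⁆ ∈ b.lker) : ⁅O, E⁆ ≤ b.rker := by
  rw [commutator_le]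
  intro o ho e he
  refine ⟨comm_mem_left b.nO (hE he) ho, fun w hw => ?_⟩
  have h1 : ⁅o, e⁆ = o * (e * o⁻¹ * e⁻¹) := by rw [commutatorElement_def]; group
  have h2 : e * o⁻¹ * e⁻¹ ∈ O := conj_mem b.nO (hE he) (inv_mem ho)
  have hw' : e⁻¹ * w * e ∈ W := by
    have := conj_mem b.nW (inv_mem (hE he)) hw
    rwa [inv_inv] at this
  have h3 : f ⁅w, e * o⁻¹ * e⁻¹⁆ = (f ⁅e⁻¹ * w * e, o⁆)⁻¹ := by
    have h4 := b.conj (hE he) hw' (inv_mem ho)
    have e1 : e * (e⁻¹ * w * e) * e⁻¹ = w := by group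
    rw [e1] at h4
    rw [h4, b.inv_right hw' ho]
  rw [h1, b.mul_right hw ho h2, h3, ← b.inv_left hw' ho, ← b.mul_left hw (inv_mem hw') ho]
  have h5 : w * (e⁻¹ * w * e)⁻¹ = ⁅w, e⁻¹⁆ := by rw [commutatorElement_def]; group
  rw [h5]
  exact (h w hw _ (inv_mem he)).2 o ho

end Bil

/-- the extension of a character by `1` -/
noncomputable def ext (T : Subgroup G) (ξ : T →* ℂˣ) (x : G) : ℂˣ := by
  classical
  exact if hx : x ∈ T then ξ ⟨x, hx⟩ else 1

theorem ext_of_mem {T : Subgroup G} {ξ : T →* ℂˣ} {x : G} (hx : x ∈ T) : ext T ξ x = ξ ⟨x, hx⟩ := by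
  unfold ext
  rw [dif_pos hx]

theorem ext_mul {T : Subgroup G} {ξ : T →* ℂˣ} {x y : G} (hx : x ∈ T) (hy : y ∈ T) :
    ext T ξ (x * y) = ext T ξ x * ext T ξ y := by
  rw [ext_of_mem hx, ext_of_mem hy, ext_of_mem (mul_mem hx hy), ← map_mul]
  rfl

/-- the stabiliser of a function on `T` in the normaliser of `T` -/
def stab (T : Subgroup G) (f : G → ℂˣ) : Subgroup G where
  carrier := {p | p ∈ normalizer (T : Set G) ∧ ∀ t ∈ T, f (p * t * p⁻¹) = f t}
  one_mem' := ⟨one_mem _, fun t _ => by rw [one_mul, inv_one, mul_one]⟩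
  mul_mem' := by
    rintro p q ⟨h1, h2⟩ ⟨h3, h4⟩
    refine ⟨mul_mem h1 h3, fun t ht => ?_⟩
    have e : p * q * t * (p * q)⁻¹ = p * (q * t * q⁻¹) * p⁻¹ := by group
    rw [e, h2 _ ((mem_normalizer_iff.1 h3 t).1 ht), h4 t ht]
  inv_mem' := by
    rintro p ⟨h1, h2⟩
    refine ⟨inv_mem h1, fun t ht => ?_⟩
    have h3 := h2 (p⁻¹ * t * p⁻¹⁻¹) ((mem_normalizer_iff.1 (inv_mem h1) t).1 ht)
    have e : p * (p⁻¹ * t * p⁻¹⁻¹) * p⁻¹ = t := by group
    rw [e] at h3
    exact h3.symm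

/-- **THEOREM C2** (#12800) -/
theorem ctwo [Finite G] (h : Two P E S Q V W) (h1 : HOne P E S Q W)
    (hZ : W ⊓ centralizer (S : Set G) ≤ centralizer (E : Set G)) (hF : NonFF S V) :
    ∃ K ≤ W, P ≤ normalizer (K : Set G) ∧ ¬ K ≤ centralizer (E : Set G) ∧ ¬ ⁅W, E⁆ ≤ K := by
  by_contra hcon
  have key : ∀ K ≤ W, P ≤ normalizer (K : Set G) → K ≤ centralizer (E : Set G) ∨ ⁅W, E⁆ ≤ K := by
    intro K hK hPK
    by_contra h2
    rw [not_or] at h2
    exact hcon ⟨K, hK, hPK, h2.1, h2.2⟩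
  have hWQ : ⁅W, Q⁆ ≤ W := by
    rw [commutator_le]
    exact fun w hw q hq => comm_mem_left (h.QP.trans h.nW) hq hw
  -- (i)
  have hi : ⁅W, Q⁆ ≤ centralizer (E : Set G) := by
    rcases key _ hWQ (normalizer_commutator h.nW h.nQ) with h2 | h2
    · exact h2
    · exfalso
      refine h.not_le_sup_commutator ?_
      conv_lhs => rw [h.W_eq]
      exact sup_le_sup_left h2 V
  -- (ii)
  set O := ⁅Q, E⁆ with hO
  have hOQ : O ≤ Q := by
    rw [hO, commutator_le]
    exact fun q hq e he => comm_mem_left (h.EP.trans h.nQ) he hq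
  have hOS : O ≤ S := hOQ.trans h.QS
  have hnO : P ≤ normalizer (O : Set G) := normalizer_commutator h.nQ h.nE
  have hOE : ⁅O, E⁆ = O := commutator_commutator_eq h.odd h.Q2 (h.EP.trans h.nQ) (h.QP.trans h.nE)
  have hOR : O ≤ centralizer ((W ⊓ centralizer (E : Set G) : Subgroup G) : Set G) := by
    rw [← commutator_eq_bot_iff_le_centralizer]
    set R := W ⊓ centralizer (E : Set G) with hR
    apply commutator_commutator_eq_bot_of_rotate
    · have h2 : ⁅E, R⁆ = ⊥ := by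
        rw [commutator_eq_bot_iff_le_centralizer]
        exact fun e he => mem_centralizer_iff.2 fun r hr => (mem_centralizer_iff.1 hr.2 e he).symm
      rw [h2, commutator_bot_left]
    · rw [commutator_eq_bot_iff_le_centralizer]
      exact (commutator_mono inf_le_left le_rfl).trans hi
  set T := ⁅W, O⁆ with hT
  have hTR : T ≤ W ⊓ centralizer (E : Set G) :=
    le_inf ((commutator_mono le_rfl hOQ).trans hWQ) ((commutator_mono le_rfl hOQ).trans hi)
  have hcO : ∀ o ∈ O, ∀ t ∈ T, o * t = t * o := fun o ho t ht =>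
    (mem_centralizer_iff.1 (hOR ho) t (hTR ht)).symm
  have hnT : P ≤ normalizer (T : Set G) := normalizer_commutator h.nW hnO
  by_cases hT0 : T = ⊥
  · -- (iv)
    have hU : ⁅W, E⁆ ≤ W := by
      rw [commutator_le]
      exact fun w hw e he => comm_mem_left (h.EP.trans h.nW) he hw
    have h2 : ⁅⁅E, W⁆, Q⁆ = ⊥ := by
      apply commutator_commutator_eq_bot_of_rotate
      · rw [commutator_eq_bot_iff_le_centralizer]
        exact hi
      · rw [← hO, commutator_comm]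
        exact hT0
    rw [commutator_comm E W, commutator_eq_bot_iff_le_centralizer] at h2
    refine h1 ⁅W, E⁆ hU (normalizer_commutator h.nW h.nE) h2
      (commutator_commutator_eq h.odd h.W2 (h.EP.trans h.nW) ((h.WS.trans h.SP).trans h.nE)) ?_
      ((inf_le_inf_right _ hU).trans hZ)
    intro h3
    rw [commutator_eq_bot_iff_le_centralizer] at h3
    exact h.V_ne (h.VW.trans h3)
  · -- (iii)
    obtain ⟨ξ, hξ, hinv⟩ := exists_inv_char h.S2 (hTR.trans (inf_le_left.trans h.WS)) (h.SP.trans hnT)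
      (fun a ha b hb => h.ab a (hTR ha).1 b (hTR hb).1) hT0
    have b : Bil P W O T (ext T ξ) :=
      { nW := h.nW
        nO := hnO
        comm := fun w hw o ho => commutator_mem_commutator hw ho
        ab := h.ab
        TW := hTR.trans inf_le_left
        cO := hcO
        mul := fun x hx y hy => ext_mul hx hy
        inv := by
          have h2 : P ≤ stab T (ext T ξ) := by
            refine h.gen.trans (sup_le (fun e he => ⟨hnT (h.EP he), fun t ht => ?_⟩)
              (fun s hs => ⟨hnT (h.SP hs), fun t ht => ?_⟩))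
            · rw [mem_centralizer_iff.1 (hTR ht).2 e he, mul_inv_cancel_right]
            · rw [ext_of_mem ht, ext_of_mem (conj_mem hnT (h.SP hs) ht)]
              exact hinv s hs t ht
          exact fun p hp => (h2 hp).2 }
    have hOV : ¬ O ≤ centralizer (V : Set G) := by
      intro h2
      -- then `[W, O] = 1`
      apply hT0
      rw [hT, commutator_comm, commutator_eq_bot_iff_le_centralizer]
      have h3 : W ≤ centralizer (O : Set G) := h.minW _
        (fun v hv => mem_centralizer_iff.2 fun o ho => (mem_centralizer_iff.1 (h2 ho) v hv).symm)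
        (normalizer_centralizer hnO)
      exact fun o ho => mem_centralizer_iff.2 fun w hw => (mem_centralizer_iff.1 (h3 hw) o ho).symm
    rcases key _ b.lker_le b.le_normalizer_lker with h2 | h2
    · -- `|O / C_O(V)| ≥ |V / C_V(E)| ≥ |V / C_V(O)|`
      have hVO : ⁅⁅V, O⁆, O⁆ = ⊥ := by
        rw [commutator_eq_bot_iff_le_centralizer]
        refine (commutator_mono h.VW le_rfl).trans fun t ht => ?_
        exact mem_centralizer_iff.2 fun o ho => hcO o ho t ht
      have hOOV : ⁅⁅O, O⁆, V⁆ = ⊥ := by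
        apply commutator_commutator_eq_bot_of_rotate
        · rw [commutator_comm O V]
          exact hVO
        · exact hVO
      rw [commutator_eq_bot_iff_le_centralizer] at hOOV
      have hsq : ∀ a ∈ O, a * a ∈ centralizer (V : Set G) := by
        intro a ha
        rw [mem_centralizer_iff]
        intro v hv
        have h3 : ⁅v, a⁆ ∈ T := commutator_mem_commutator (h.VW hv) ha
        have h4 := hcO a ha _ h3
        have h5 : ⁅v, a * a⁆ = ⁅v, a⁆ * ⁅v, a⁆ := by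
          calc ⁅v, a * a⁆ = ⁅v, a⁆ * (a * ⁅v, a⁆) * a⁻¹ := by simp only [commutatorElement_def]; group
            _ = ⁅v, a⁆ * (⁅v, a⁆ * a) * a⁻¹ := by rw [h4]
            _ = _ := by group
        rw [h.sq _ (hTR h3).1, commutatorElement_eq_one_iff_mul_comm] at h5
        exact h5
      have h3 := hF O hOS (fun x hx y hy => hOOV (commutator_mem_commutator hx hy)) hsq hOV
      have pr : BTwo.Pairing V O T :=
        { comm := fun v hv o ho => commutator_mem_commutator (h.VW hv) ho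
          cA := fun v hv t ht => h.ab v (h.VW hv) t (hTR ht).1
          cW := hcO }
      have h4 := pr.relIndex_le ξ (K := centralizer (E : Set G)) (N := centralizer (V : Set G))
        (fun x hx y hy => hOOV (commutator_mem_commutator hx hy))
        (fun a ha n hn hnV => by
          have h5 : (⟨a * n * a⁻¹ * n⁻¹, pr.comm a ha n hn⟩ : T) = 1 := by
            apply Subtype.ext
            change a * n * a⁻¹ * n⁻¹ = 1
            rw [mem_centralizer_iff.1 hnV a ha]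
            group
          rw [h5, map_one])
        (fun a ha h5 => h2 ⟨h.VW ha, fun o ho => by
          rw [ext_of_mem (commutator_mem_commutator (h.VW ha) ho)]
          exact h5 o ho⟩)
      have h5 : (centralizer (O : Set G)).relIndex V ≤ (centralizer (E : Set G)).relIndex V := by
        have h6 : centralizer (E : Set G) ⊓ V ≤ centralizer (O : Set G) := by
          rintro x ⟨hx1, hx2⟩
          refine mem_centralizer_iff.2 fun o ho => ?_
          exact (mem_centralizer_iff.1 (hOR ho) x ⟨h.VW hx2, hx1⟩).symm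
        have h7 := relIndex_dvd_of_le_left V h6
        rw [inf_relIndex_right] at h7
        exact Nat.le_of_dvd (Nat.pos_of_ne_zero (by
          rw [relIndex]
          exact index_ne_zero_of_finite)) h7
      omega
    · have h3 : ⁅O, E⁆ ≤ b.rker := b.commutator_le_rker h.EP fun w hw e he =>
        h2 (commutator_mem_commutator hw he)
      rw [hOE] at h3
      apply hξ
      ext ⟨t, ht⟩
      have h4 : T ≤ (MonoidHom.ker ξ).map T.subtype := by
        conv_lhs => rw [hT]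
        rw [commutator_le]
        intro w hw o ho
        have h5 := (h3 ho).2 w hw
        have h6 : ⁅w, o⁆ ∈ T := commutator_mem_commutator hw ho
        rw [ext_of_mem h6] at h5
        exact ⟨⟨_, h6⟩, h5, rfl⟩
      obtain ⟨⟨s, hs⟩, h5, h6⟩ := h4 ht
      have h7 : s = t := h6
      subst h7
      rw [h5]
      rfl

end Cfsg.Agent.Omega.NO3S.NotFF
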